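import Cfsg.Agent.H240.GenTwF.TwFInner
import Cfsg.Agent.H28.T5RankOne
import Cfsg.Agent.S1163
import Cfsg.Agent.H240.GenTwF.TwFFix
import Cfsg.Agent.H240.BalTwF.Dvd
import Cfsg.Agent.FastGrp
import Cfsg.Agent.Prune
set_option linter.all false
prune_inst 0x7f00000000000000000000000000000000000000000000000000000000000000000000000000000000000000000000000000000000000000000000000000000000000000000000000000000000000000003fffffffffffffffffffffffffffbeffbdffffffff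
open scoped Cfsg.Agent.FastGrp

-- part: H240/GenTwF/Outer
section
/-!
# S2187: elementary abelian groups containing a "field automorphism" `ψ` (helper240)

* `decomp` : `E = (E ∩ Inn G) ⟨ψ⟩`;
* `fix_le_Gam` : `C_G(ψ) ≤ Gam p E`, given the theorem for inner automorphisms of `C_G(ψ)`;
* `pair_le_Gam` : `L, M ≤ Gam p E` for two `ψ`-invariant commuting subgroups `L`, `M` such that `p`-subgroups of `C_G(ψ)`
  are conjugate in `C_G(ψ)` into `L M`.
-/

set_option autoImplicit false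
set_option linter.unusedSectionVars false
set_option linter.unusedVariables false

namespace Cfsg.Agent.H240.GenTwF

open Cfsg Subgroup Cfsg.Agent.H818.Gen

variable {G : Type*} [Group G] [Finite G] {p : ℕ} [hp : Fact p.Prime]

/-- `E = (E ∩ Inn G) ⟨ψ⟩` -/
theorem decomp {E : Subgroup (MulAut G)} (hE : IsElementaryAbelian p E) (hrel : (Inn G).relIndex E ≤ p) {ψ : MulAut G}
    (hψ : ψ ∈ E) (hψ' : ψ ∉ Inn G) {e : MulAut G} (he : e ∈ E) :
    ∃ (x : G) (k : ℤ), MulAut.conj x ∈ E ∧ e = MulAut.conj x * ψ ^ k := by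
  let q : E →* MulAut G ⧸ Inn G := (QuotientGroup.mk' _).comp E.subtype
  have h1 : q.ker = (Inn G).subgroupOf E := by
    ext a
    rw [MonoidHom.mem_ker, mem_subgroupOf]
    exact QuotientGroup.eq_one_iff (a : MulAut G)
  have h2 : Nat.card q.range ≤ p := by
    rw [← index_ker, h1]
    exact hrel
  have h3 : q ⟨ψ, hψ⟩ ≠ 1 := fun h => hψ' ((QuotientGroup.eq_one_iff ψ).1 h)
  have h4 : orderOf (q ⟨ψ, hψ⟩) = p := by
    refine orderOf_eq_prime ?_ h3
    rw [← map_pow, show (⟨ψ, hψ⟩ : E) ^ p = 1 from Subtype.ext (hE.2 ψ hψ), map_one]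
  have h5 : zpowers (q ⟨ψ, hψ⟩) = q.range := by
    refine eq_of_le_of_card_ge (zpowers_le.2 ⟨_, rfl⟩) ?_
    rw [Nat.card_zpowers, h4]
    exact h2
  have h6 : q ⟨e, he⟩ ∈ zpowers (q ⟨ψ, hψ⟩) := by rw [h5]; exact ⟨_, rfl⟩
  obtain ⟨k, hk⟩ := mem_zpowers_iff.1 h6
  have h7 : q (⟨e, he⟩ * (⟨ψ, hψ⟩ ^ k)⁻¹) = 1 := by
    rw [map_mul, map_inv, map_zpow, hk, mul_inv_cancel]
  obtain ⟨x, hx⟩ := (QuotientGroup.eq_one_iff _).1 h7
  have hx' : MulAut.conj x = e * (ψ ^ k)⁻¹ := hx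
  refine ⟨x, k, ?_, ?_⟩
  · rw [hx']
    exact mul_mem he (inv_mem (zpow_mem hψ k))
  · rw [hx', inv_mul_cancel_right]

theorem comm_of_elab {E : Subgroup (MulAut G)} (hE : IsElementaryAbelian p E) {a b : MulAut G} (ha : a ∈ E) (hb : b ∈ E) :
    a * b = b * a := congrArg Subtype.val (hE.1.1.1 ⟨a, ha⟩ ⟨b, hb⟩)

/-- inner elements are fixed by `ψ` -/
theorem fixed_of_inner (hz : center G = ⊥) {E : Subgroup (MulAut G)} (hE : IsElementaryAbelian p E) {ψ : MulAut G}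
    (hψ : ψ ∈ E) {x : G} (hx : MulAut.conj x ∈ E) : ψ x = x := by
  apply conj_injective hz
  rw [← conj_conj, comm_of_elab hE hψ hx, mul_inv_cancel_right]

theorem zpow_fixed {ψ : MulAut G} {x : G} (h : ψ x = x) (k : ℤ) : (ψ ^ k) x = x := by
  have h2 : ψ ∈ MulAction.stabilizer (MulAut G) x := h
  exact (MulAction.stabilizer (MulAut G) x).zpow_mem h2 k

theorem zpow_mem_of {ψ : MulAut G} {L : Subgroup G} (h : ∀ x ∈ L, ψ x ∈ L) (k : ℤ) : ∀ x ∈ L, (ψ ^ k) x ∈ L := by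
  have h1 : ∀ x, ψ x ∈ L ↔ x ∈ L := by
    intro x
    refine ⟨fun hx => ?_, h x⟩
    let f : L → L := fun a => ⟨ψ a, h a a.2⟩
    have hf : Function.Surjective f := Finite.surjective_of_injective (by
      intro a b hab
      exact Subtype.ext (ψ.injective (congrArg Subtype.val hab)))
    obtain ⟨a, ha⟩ := hf ⟨ψ x, hx⟩
    rw [← ψ.injective (congrArg Subtype.val ha : ψ a = ψ x)]
    exact a.2
  let D : Subgroup (MulAut G) :=
    { carrier := {f | ∀ x, f x ∈ L ↔ x ∈ L}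
      one_mem' := fun x => Iff.rfl
      mul_mem' := fun {a b} ha hb x => by
        rw [MulAut.mul_apply, ha, hb]
      inv_mem' := fun {a} ha x => by
        have := ha (a⁻¹ x)
        rw [MulAut.apply_inv_self] at this
        exact this.symm }
  have h2 : ψ ∈ D := h1
  intro x hx
  exact ((D.zpow_mem h2 k) x).2 hx

/-- **`C_G(ψ) ≤ Gam p E`** -/
theorem fix_le_Gam (hz : center G = ⊥) {E : Subgroup (MulAut G)} (hE : IsElementaryAbelian p E) (hc : p ^ 2 ≤ Nat.card E)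
    (hrel : (Inn G).relIndex E ≤ p) {ψ : MulAut G} (hψ : ψ ∈ E) (hψ' : ψ ∉ Inn G)
    (hGC : ∀ E' : Subgroup (MulAut ↥(fixedSubgroup ψ)), IsElementaryAbelian p E' → p ^ 2 ≤ Nat.card E' → E' ≤ Inn _ →
      Gam p E' = ⊤) : fixedSubgroup ψ ≤ Gam p E := by
  have hEC : ∀ φ ∈ E, ∀ x ∈ fixedSubgroup ψ, φ x ∈ fixedSubgroup ψ := by
    intro φ hφ x hx
    show ψ (φ x) = φ x
    have hx' : ψ x = x := hx
    rw [← MulAut.mul_apply, comm_of_elab hE hψ hφ, MulAut.mul_apply, hx']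
  refine le_Gam_of_range hE hc hEC fun h => hGC _ (elab_range hE _) h ?_
  rintro _ ⟨⟨e, he⟩, rfl⟩
  obtain ⟨x, k, hx, hex⟩ := decomp hE hrel hψ hψ' he
  have hxf : ψ x = x := fixed_of_inner hz hE hψ hx
  refine ⟨⟨x, hxf⟩, ?_⟩
  ext ⟨y, hy⟩
  show x * y * x⁻¹ = e y
  rw [hex, MulAut.mul_apply, MulAut.conj_apply, zpow_fixed hy k]

/-- **`L ≤ Gam p E`** -/
theorem pair_le_Gam (hz : center G = ⊥) {E : Subgroup (MulAut G)} (hE : IsElementaryAbelian p E) (hc : p ^ 2 ≤ Nat.card E)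
    (hrel : (Inn G).relIndex E ≤ p) {ψ : MulAut G} (hψ : ψ ∈ E) (hψ' : ψ ∉ Inn G) {L M : Subgroup G}
    (hcomm : ∀ l ∈ L, ∀ m ∈ M, l * m = m * l) (hψL : ∀ x ∈ L, ψ x ∈ L)
    (hGL : ∀ L' : Subgroup G, Nonempty (L ≃* L') → ∀ E' : Subgroup (MulAut L'), IsElementaryAbelian p E' →
      p ^ 2 ≤ Nat.card E' → (Inn L').relIndex E' ≤ p → Gam p E' = ⊤)
    {g : G} (hg : ψ g = g) (hgG : g ∈ Gam p E)
    (hconj : ∀ a, MulAut.conj a ∈ E → ∃ l ∈ L, ∃ m ∈ M, g * a * g⁻¹ = l * m) : L ≤ Gam p E := by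
  set L' : Subgroup G := L.comap (MulAut.conj g).toMonoidHom with hL'
  have hmem : ∀ x, x ∈ L' ↔ g * x * g⁻¹ ∈ L := fun x => Iff.rfl
  have hmap : L'.map (MulAut.conj g).toMonoidHom = L :=
    map_comap_eq_self_of_surjective (MulAut.conj g).surjective _
  have e : ↥L ≃* ↥L' :=
    ((L'.equivMapOfInjective (MulAut.conj g).toMonoidHom (MulAut.conj g).injective).trans
      (MulEquiv.subgroupCongr hmap)).symm
  -- the action of the elements of `L M`
  have hact : ∀ a, MulAut.conj a ∈ E → ∃ l ∈ L', ∀ x ∈ L', a * x * a⁻¹ = l * x * l⁻¹ := by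
    intro a ha
    obtain ⟨l, hl, m, hm, h⟩ := hconj a ha
    have h1 : g * (g⁻¹ * l * g) * g⁻¹ = l := by group
    refine ⟨g⁻¹ * l * g, (hmem _).2 (by rw [h1]; exact hl), fun x hx => ?_⟩
    have hx' := (hmem x).1 hx
    have h2 := hcomm _ hx' m hm
    have h3 : a = g⁻¹ * (l * m) * g := by rw [← h]; group
    have h4 : m * (g * x * g⁻¹) * m⁻¹ = g * x * g⁻¹ := by rw [← h2, mul_inv_cancel_right]
    calc a * x * a⁻¹ = g⁻¹ * (l * (m * (g * x * g⁻¹) * m⁻¹) * l⁻¹) * g := by rw [h3]; group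
      _ = g⁻¹ * (l * (g * x * g⁻¹) * l⁻¹) * g := by rw [h4]
      _ = _ := by group
  have hψL' : ∀ x ∈ L', ψ x ∈ L' := by
    intro x hx
    rw [hmem] at hx ⊢
    have h1 := hψL _ hx
    rwa [map_mul, map_mul, map_inv, hg] at h1
  have hEL : ∀ φ ∈ E, ∀ x ∈ L', φ x ∈ L' := by
    intro φ hφ x hx
    obtain ⟨a, k, ha, hak⟩ := decomp hE hrel hψ hψ' hφ
    have h1 := zpow_mem_of hψL' k x hx
    obtain ⟨l, hl, h⟩ := hact a ha
    rw [hak, MulAut.mul_apply, MulAut.conj_apply, h _ h1]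
    exact mul_mem (mul_mem hl h1) (inv_mem hl)
  have hle : L' ≤ Gam p E := by
    refine le_Gam_of_range hE hc hEL fun h => hGL L' ⟨e⟩ _ (elab_range hE _) h ?_
    rw [← index_comap]
    have h1 : (Inn G).subgroupOf E ≤ (Inn L').comap (resE E L' hEL) := by
      intro a ha
      obtain ⟨y, hy⟩ := mem_subgroupOf.1 ha
      obtain ⟨l, hl, h⟩ := hact y (by rw [hy]; exact a.2)
      refine ⟨⟨l, hl⟩, ?_⟩
      ext ⟨x, hx⟩
      show l * x * l⁻¹ = (a : MulAut G) x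
      rw [← hy, MulAut.conj_apply, h x hx]
    have h2 := index_dvd_of_le h1
    have h3 : 0 < ((Inn G).subgroupOf E).index := Nat.pos_of_ne_zero FiniteIndex.index_ne_zero
    exact (Nat.le_of_dvd h3 h2).trans hrel
  intro l hl
  have h1 : g * (g⁻¹ * l * g) * g⁻¹ = l := by group
  rw [← h1]
  exact mul_mem (mul_mem hgG (hle ((hmem _).2 (by rw [h1]; exact hl)))) (inv_mem hgG)

end Cfsg.Agent.H240.GenTwF
end

-- part: H240/GenTwF/SzRee
section
/-!
# S2187: the rows of the Suzuki groups and of the small Ree groups (helper240)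
-/

set_option autoImplicit false

namespace Cfsg.Agent.H240.GenTwF

open Cfsg Subgroup Cfsg.Agent.H818.Gen
open Cfsg.Agent.H28.T5RankOne

universe u

/-- **The row of the Suzuki groups** -/
theorem gen_sz (hF : FieldRow.{0}) {F : Type} [Field F] [Fintype F] {m : ℕ} (hm : 1 ≤ m)
    (hc : Fintype.card F = 2 ^ (2 * m + 1)) {p : ℕ} (hcd : Cond 2 p) : Gen p ↥(Cfsg.Lie.Sz F (2 ^ (m + 1))) := by
  have hp : Fact p.Prime := ⟨hcd.p_prime⟩
  have hs : IsSimpleGroup ↥(Cfsg.Lie.Sz F (2 ^ (m + 1))) := Cfsg.Agent.S1162.result hm hc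
  have hR : IsCyclic (F ≃+* F) := LieRecognition.FieldSemilinear.isCyclic_ringAut F
  have hD := sz_data hm hc (p := p) hcd.p_ne_two
  have h7 : 7 ≤ p := by
    rcases hcd.big with h | h
    · exact h
    · exact absurd rfl h
  refine gen_of_cyclic hF hcd (sz_na hm hc) ?_ hD.cyc (cyclic_out _ hD.aut) (by omega) (by omega)
  refine Or.inr (Or.inr (Or.inr (Or.inr (Or.inr (Or.inr (Or.inr (Or.inr (Or.inl ⟨rfl, ?_⟩))))))))
  exact ⟨F, inferInstance, inferInstance, m, hm, hc, ⟨MulEquiv.refl _⟩⟩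

theorem row_sz (hF : FieldRow.{0}) {G : Type u} [Group G] [Finite G] {p : ℕ} (hcd : Cond 2 p)
    (h : Lie.IsoSuzuki G) : Gen p G := by
  obtain ⟨F, _, _, m, hm, hc, ⟨e⟩⟩ := h
  exact (gen_sz hF hm hc hcd).congr e.symm

/-- **The row of the small Ree groups** -/
theorem gen_ree (hF : FieldRow.{0}) {K : Type} [Field K] [Fintype K] {m : ℕ} (hm : 1 ≤ m)
    (hK : Fintype.card K = 3 ^ (2 * m + 1)) {p : ℕ} (hcd : Cond 3 p) : Gen p ↥(Cfsg.Lie.twistedG2 K (3 ^ m)) := by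
  have hp : Fact p.Prime := ⟨hcd.p_prime⟩
  have hs : IsSimpleGroup ↥(Cfsg.Lie.twistedG2 K (3 ^ m)) := (Cfsg.Agent.S1073.result hm hK).1
  have hR : IsCyclic (K ≃+* K) := LieRecognition.FieldSemilinear.isCyclic_ringAut K
  have h3 := hcd.p_ne_r
  have h5 : 5 ≤ p := by
    have h2 := hcd.three_le
    have h4 : p ≠ 4 := by
      rintro rfl
      exact absurd hcd.p_prime (by norm_num)
    omega
  have hD := ree_data hm hK (p := p) h5
  refine gen_of_cyclic hF hcd (ree_na hm hK) ?_ hD.cyc (cyclic_out _ hD.aut) (by omega) ?_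
  · refine Or.inr (Or.inr (Or.inr (Or.inr (Or.inr (Or.inr (Or.inr (Or.inr (Or.inr (Or.inr ⟨rfl, ?_⟩)))))))))
    exact ⟨K, inferInstance, inferInstance, m, hm, hK, ⟨MulEquiv.refl _⟩⟩
  · rintro ⟨-, F, _, _, hF32, ⟨e⟩⟩
    have h1 := (Cfsg.Agent.S1163.result (F := F) (m := 2) (by norm_num) (by rw [hF32]; norm_num)).1
    have h2 := Cfsg.Agent.S1069.result hK
    have h6 : Nat.card ↥(Cfsg.Lie.twistedG2 K (3 ^ m)) = Nat.card ↥(Cfsg.Lie.Sz F (2 ^ (2 + 1))) :=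
      Nat.card_congr e.toEquiv
    have h8 : (3 : ℕ) ∣ (3 ^ (2 * m + 1)) ^ 3 := dvd_pow (dvd_pow_self 3 (by omega)) (by norm_num)
    have h7 : 3 ∣ Nat.card ↥(Cfsg.Lie.twistedG2 K (3 ^ m)) := by
      rw [h2]
      exact (h8.mul_right _).mul_right _
    rw [h6, h1] at h7
    norm_num at h7

theorem row_ree (hF : FieldRow.{0}) {G : Type u} [Group G] [Finite G] {p : ℕ} (hcd : Cond 3 p)
    (h : Lie.IsoRee G) : Gen p G := by
  obtain ⟨K, _, _, m, hm, hK, ⟨e⟩⟩ := h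
  exact (gen_ree hF hm hK hcd).congr e.symm

end Cfsg.Agent.H240.GenTwF
end

-- part: H240/GenTwF/TwFEmb
section
/-!
# S2187, row `²F₄`: preparations for the outer automorphisms (helper240)

* `conj_of_emb`, `inner_congr`, `map_XZ`, `out_cyclic`, `gam_LO`.
-/

set_option autoImplicit false
set_option linter.unusedSectionVars false
set_option linter.unusedVariables false

namespace Cfsg.Agent.H240.GenTwF

open Cfsg Subgroup Cfsg.Lie Cfsg.Agent.H818.Gen Cfsg.Agent.H818.StrP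
open Cfsg.Agent.H967.CopMat (Fx card_Fx)
open Cfsg.Agent.ChevalleyStructure.TwF4.TwistedFix (exists_rln Rln)
open Cfsg.Agent.KFacts.TwF4 Cfsg.Agent.KFacts.TwF4.Inv Cfsg.Agent.KFacts.TwF4.Arc
open Cfsg.Agent.CpAutTwF.Cent (M4)
open Cfsg.Agent.CpAutTwF.FieldAut (Fa K2)
open Cfsg.Agent.SplitTwo.RootSysZ Cfsg.Agent.KFacts.TwF4.Perf Cfsg.Agent.H496.TwEight.HOFacts
open Cfsg.Agent.SplitTwo Cfsg.Agent.SplitTwo.ZS Cfsg.Agent.TitsThree.RankTwoZ
open Cfsg.Agent.KFacts.TwF4.Irr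
open Cfsg.Agent.H496.TwFRad.Levi Cfsg.Agent.H496.SpTwF.Sq Cfsg.Agent.H772.TF
open Cfsg.Agent.CpAutTwF.Pair Cfsg.Agent.CpAutTwF.Cent

universe u

section abs

/-- conjugation into `L M` inside the fixed points -/
theorem conj_of_emb {H G : Type*} [Group H] [Finite H] [Group G] {p : ℕ} [hp : Fact p.Prime] (f : H →* G)
    (hf : Function.Injective f) {L₀ M₀ : Subgroup H} (h : PairD p L₀ M₀) {L M : Subgroup G} (hL : ∀ l ∈ L₀, f l ∈ L)
    (hM : ∀ x ∈ M₀, f x ∈ M) {A : Subgroup G} (hA : IsPGroup p A) (hAC : A ≤ f.range) :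
    ∃ g ∈ f.range, ∀ a ∈ A, ∃ l ∈ L, ∃ m ∈ M, g * a * g⁻¹ = l * m := by
  obtain ⟨g, hg⟩ := h.exists_conj (hA.comap_of_injective f hf)
  refine ⟨f g, ⟨g, rfl⟩, fun a ha => ?_⟩
  obtain ⟨b, rfl⟩ := hAC ha
  obtain ⟨l, hl, m, hm, h1⟩ := hg b ha
  refine ⟨f l, hL l hl, f m, hM m hm, ?_⟩
  rw [← map_inv, ← map_mul, ← map_mul, ← map_mul, h1]

/-- the theorem for inner automorphisms is invariant under isomorphisms -/
theorem inner_congr {X Y : Type*} [Group X] [Group Y] {p : ℕ} (e : X ≃* Y)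
    (h : ∀ E : Subgroup (MulAut X), IsElementaryAbelian p E → p ^ 2 ≤ Nat.card E → E ≤ Inn X → Gam p E = ⊤) :
    ∀ E : Subgroup (MulAut Y), IsElementaryAbelian p E → p ^ 2 ≤ Nat.card E → E ≤ Inn Y → Gam p E = ⊤ := by
  intro E hE hc hI
  have h1 := h (E.map (MulAut.congr e.symm).toMonoidHom) ?_ ?_ ?_
  · have h2 := map_Gam (p := p) e.symm E
    rw [h1] at h2
    rw [eq_top_iff]
    intro x _
    have h3 : e.symm x ∈ (Gam p E).map e.symm.toMonoidHom := by rw [h2]; exact mem_top _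
    obtain ⟨y, hy, hyx⟩ := h3
    have : y = x := e.symm.injective hyx
    rwa [← this]
  · refine ⟨⟨⟨?_⟩⟩, ?_⟩
    · rintro ⟨_, a, ha, rfl⟩ ⟨_, b, hb, rfl⟩
      have := congrArg (fun z : ↥E => (z : MulAut Y)) (hE.1.1.1 ⟨a, ha⟩ ⟨b, hb⟩)
      refine Subtype.ext ?_
      show (MulAut.congr e.symm) a * (MulAut.congr e.symm) b = (MulAut.congr e.symm) b * (MulAut.congr e.symm) a
      rw [← map_mul, ← map_mul]
      exact congrArg _ this
    · rintro _ ⟨a, ha, rfl⟩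
      rw [← map_pow, hE.2 a ha, map_one]
  · rw [Nat.card_congr (E.equivMapOfInjective _ (MulAut.congr e.symm).injective).toEquiv.symm]
    exact hc
  · rintro _ ⟨a, ha, rfl⟩
    obtain ⟨y, rfl⟩ := hI ha
    refine ⟨e.symm y, ?_⟩
    ext x
    show e.symm y * x * (e.symm y)⁻¹ = e.symm (y * e.symm.symm x * y⁻¹)
    rw [map_mul, map_mul, map_inv, MulEquiv.symm_symm, e.symm_apply_apply]

end abs

section sys

variable {F₀ F : Type*} [Field F₀] [Field F] {σ₀ : F₀ →+* F₀} {σ : F →+* F} {H G : Type*} [Group H] [Group G]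
  (S₀ : Full σ₀ H) (S : Full σ G)

theorem map_XZ (f : H →* G) (ι : F₀ → F) (ho : ∀ a t, f (S₀.o a t) = S.o a (ι t))
    (he : ∀ a p u, f (S₀.e a p u) = S.e a (ι p) (ι u)) (k : ℤ) : S₀.XZ k ≤ (S.XZ k).comap f := by
  intro x hx
  rw [mem_comap]
  obtain ⟨a, h | h⟩ := Int.even_or_odd' k
  · rw [h] at hx ⊢
    obtain ⟨p, u, rfl⟩ := (S₀.mem_XZ_even a x).1 hx
    rw [he]
    exact S.e_mem a _ _
  · rw [h] at hx ⊢
    obtain ⟨t, rfl⟩ := (S₀.mem_XZ_odd a x).1 hx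
    rw [ho]
    exact S.o_mem a _

end sys

section model

variable {K : Type} [Field K] [Fintype K] {m : ℕ} {p : ℕ} [hp : Fact p.Prime]

/-- the field automorphisms -/
noncomputable def fldHom (K : Type) [Field K] [Fintype K] (m : ℕ) : (K ≃+* K) →* MulAut ↥(twistedF4 K (2 ^ m)) where
  toFun τ := S2128.fld τ (2 ^ m)
  map_one' := Cfsg.Agent.H628.ZTwF4Out.fldF_one
  map_mul' τ ρ := Cfsg.Agent.H71.FldAut.fldF_mul τ ρ (2 ^ m)

theorem out_cyclic (hm : 1 ≤ m) (hK : Fintype.card K = 2 ^ (2 * m + 1)) :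
    IsCyclic (MulAut ↥(twistedF4 K (2 ^ m)) ⧸ Inn ↥(twistedF4 K (2 ^ m))) := by
  have : IsCyclic (K ≃+* K) := LieRecognition.FieldSemilinear.isCyclic_ringAut K
  exact cyclic_out (fldHom K m) fun ψ => Cfsg.Agent.H71.FldAut.twF4_aut hm hK ψ

end model

section LO

variable {F : Type} [Field F] {σ : F →+* F} {G : Type} [Group G] (S : Full σ G)
variable [Finite F] [Finite G] {p : ℕ} [hp : Fact p.Prime]

/-- **`LO ≅ SL₂(q)`** -/
theorem gam_LO (hFR : FieldRow.{0}) (hcd : Cond 2 p) (hF : ∃ c : Fˣ, c ≠ 1) (hR : S.R.p = 2) (h4 : 4 ≤ Nat.card F)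
    (hnq : ¬ p ∣ Nat.card F - 1) {L' : Type} [Group L'] [Finite L'] (e : ↥S.LO ≃* L') {E' : Subgroup (MulAut L')}
    (hE : IsElementaryAbelian p E') (hc : p ^ 2 ≤ Nat.card E') (hrel : (Inn L').relIndex E' ≤ p) : Gam p E' = ⊤ := by
  have hc2 : CharP F 2 := CharTwo.of_one_ne_zero_of_two_eq_zero one_ne_zero S.two
  have hfF : Fintype F := Fintype.ofFinite F
  have h7 : 7 ≤ p := by
    rcases hcd.big with h | h
    · exact h
    · exact absurd rfl h
  have hs := Cfsg.Agent.H240.BalTwF.simple_LO S h4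
  have hs' : IsSimpleGroup L' := (MulEquiv.isSimpleGroup_congr e).1 hs
  obtain ⟨e1⟩ := Cfsg.Agent.H240.BalTwF.nonempty_LO S
  obtain ⟨e2⟩ := Cfsg.Agent.WeakTI.PslTwo.nonempty_equiv (F := F)
  have hna : ¬ IsMulCommutative L' := by
    intro h
    have h1 : ∀ x y : S.LO, x * y = y * x := fun x y => e.injective (by
      rw [map_mul, map_mul]; exact h.1.1 _ _)
    have h2 := congrArg Subtype.val (h1 ⟨e3 S, e3_mem S⟩ ⟨S.n1, S.n1_mem_LO⟩)
    have h7 : S.n1 * e3 S = e3 S * S.n1 := h2.symm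
    have h8 := n1_e3 S
    rw [h7, mul_inv_cancel_right] at h8
    apply e3_ne S
    have h9 : e3 S * e3 S = 1 := by nth_rw 2 [h8]; exact mul_inv_cancel _
    have h10 := e3_cube S
    rwa [h9, one_mul] at h10
  have hLie : IsLieTypeChar 2 L' := by
    left
    exact ⟨F, inferInstance, hfF, hc2, 2, le_rfl, fun _ => by rw [← Nat.card_eq_fintype_card]; exact h4,
      ⟨e.symm.trans (e1.trans e2)⟩⟩
  have hcyc : ∀ P : Sylow p L', IsCyclic ↥(P : Subgroup L') := by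
    intro P
    have h1 : IsPGroup p (((P : Subgroup L').map e.symm.toMonoidHom).map S.LO.subtype) := (P.2.map _).map _
    have h2 : IsCyclic (((P : Subgroup L').map e.symm.toMonoidHom).map S.LO.subtype) :=
      H42.Tw.cyc S hF hR (by omega) hnq (j := 1) _ (map_subtype_le _) h1
    have h3 := ((((P : Subgroup L').map e.symm.toMonoidHom).equivMapOfInjective S.LO.subtype
      S.LO.subtype_injective)).isCyclic.2 h2
    exact ((P : Subgroup L').equivMapOfInjective e.symm.toMonoidHom e.symm.injective).isCyclic.2 h3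
  exact Gam_of_cyclic hFR hcd hna hLie hcyc (by omega) (by omega) hE hc hrel

end LO

end Cfsg.Agent.H240.GenTwF
end
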