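import Cfsg.Agent.H818.Gen.Rows_m3
import Cfsg.Agent.OddHalf.Known
import Cfsg.Agent.H240.BalTwF.Abs
import Cfsg.Agent.H240.BalTwF.Sz
import Cfsg.Agent.H240.BalTwF.Plus
import Cfsg.Agent.H496.SpTwF.Row
import Cfsg.Agent.H565.TwF4Rank
import Cfsg.Agent.S1072
import Cfsg.Agent.FastGrp
import Cfsg.Agent.Prune
set_option linter.all false
prune_inst 0x7f00000000000000000000000000000000000000000000000000000000000000000000000000000000000000000000000000000000000000000000000000000000000000000000000000000000000000003fffffffffffffffffffffffffffbeffbdffffffff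
open scoped Cfsg.Agent.FastGrp

-- part: H240/GenTwF/Cyclic
section
/-!
# S2187: simple groups of Lie type with cyclic Sylow `p`-subgroups (helper240)

* `gen_of_cyclic` : `K` simple of Lie type in characteristic `r ≠ p`, cyclic Sylow `p`-subgroups, `Out K` cyclic ⟹ `Gen p K`
  (input `FieldRow` of S2120).
-/

set_option autoImplicit false
set_option linter.unusedSectionVars false

namespace Cfsg.Agent.H240.GenTwF

open Cfsg Subgroup Cfsg.Agent.H818.StrP Cfsg.Agent.H818.Gen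

universe u

/-- `PSL₂(8)` (as `H193.StrP.IsL28`) -/
def IsL28 (K : Type u) [Group K] : Prop :=
  ∃ (F : Type) (_ : Field F) (_ : Fintype F), Fintype.card F = 8 ∧
    Nonempty (K ≃* Matrix.ProjectiveSpecialLinearGroup (Fin 2) F)

/-- `Sz(32)` (as `H193.StrP.IsSz32`) -/
def IsSz32 (K : Type u) [Group K] : Prop :=
  ∃ (F : Type) (_ : Field F) (_ : Fintype F), Fintype.card F = 32 ∧ Nonempty (K ≃* ↥(Lie.Sz F 8))

/-- the input `H193.StrP.FieldRow` of S2120, proved in `H975.FieldInput.fieldRow` (not imported here because of its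
closure) -/
def FieldRow : Prop :=
  ∀ (r p : ℕ) [Fact r.Prime] [Fact p.Prime], p ≠ 2 → p ≠ r → ∀ (X : Type u) [Group X] [Finite X] (K : Subgroup X),
    K.Normal → IsSimpleGroup ↥K → ¬ IsMulCommutative ↥K → centralizer (K : Set X) = ⊥ → IsLieTypeChar r ↥K →
    p ∣ Nat.card ↥K → (∀ P : Sylow p ↥K, IsCyclic ↥(P : Subgroup ↥K)) → ∀ f : X, f ∉ K → orderOf f = p →
    NoSP p X ∨ (p = 3 ∧ IsL28 ↥K) ∨ (p = 5 ∧ IsSz32 ↥K)

section
variable {K : Type u} [Group K] [Finite K] {p : ℕ} [hp : Fact p.Prime]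

/-- an outer element -/
theorem exists_outer_mem (hz : center K = ⊥) (hcyc : ∀ P : Sylow p K, IsCyclic ↥(P : Subgroup K))
    {E : Subgroup (MulAut K)} (hE : IsElementaryAbelian p E) (hc : p ^ 2 ≤ Nat.card E) : ∃ e ∈ E, e ∉ Inn K := by
  by_contra hcon
  push Not at hcon
  exact not_cyclic_of_sq hE hc (cyclic_inn hz hcyc (elab_isPGroup hE) hcon)

/-- the order of `E` is `p ^ 2`, `Inn K` has index `p` in `E` -/
theorem card_eq_sq' (hz : center K = ⊥) (hcyc : ∀ P : Sylow p K, IsCyclic ↥(P : Subgroup K))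
    {E : Subgroup (MulAut K)} (h1 : (Inn K).relIndex E ≤ p) (hE : IsElementaryAbelian p E) (hc : p ^ 2 ≤ Nat.card E) :
    Nat.card E = p ^ 2 ∧ (Inn K).relIndex E = p := by
  have h2 : Nat.card ↥((Inn K).subgroupOf E) ≤ p := by
    have h3 : IsElementaryAbelian p (Inn K ⊓ E) := elab_mono inf_le_right hE
    have h4 : IsCyclic ↥(Inn K ⊓ E) := cyclic_inn hz hcyc (elab_isPGroup h3) inf_le_left
    have h5 : Nat.card ↥(Inn K ⊓ E) ≤ p := card_le_of_cyclic fun x => Subtype.ext (h3.2 x x.2)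
    rw [← inf_subgroupOf_right, Nat.card_congr (subgroupOfEquivOfLe inf_le_right).toEquiv]
    exact h5
  have h3 := ((Inn K).subgroupOf E).card_mul_index
  rw [← relIndex] at h3
  have h4 : (Inn K).relIndex E = p := by
    by_contra hne
    have h5 : (Inn K).relIndex E + 1 ≤ p := by omega
    have h6 : Nat.card E ≤ p * (p - 1) := by
      rw [← h3]
      exact Nat.mul_le_mul h2 (by omega)
    have h7 : p * (p - 1) < p ^ 2 := by
      rw [pow_two]
      exact Nat.mul_lt_mul_of_pos_left (by have := hp.out.pos; omega) hp.out.pos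
    omega
  refine ⟨le_antisymm ?_ hc, h4⟩
  rw [← h3, h4, pow_two]
  exact Nat.mul_le_mul_right p h2

/-- `E` contains all elements of order `p` of the `p`-subgroups of `Inn(K) E` above it -/
theorem omega_le (hp2 : p ≠ 2) (hz : center K = ⊥) (hcyc : ∀ P : Sylow p K, IsCyclic ↥(P : Subgroup K))
    {E : Subgroup (MulAut K)} (hE : IsElementaryAbelian p E) (hc : Nat.card E = p ^ 2)
    (hi : (Inn K).relIndex E = p) {Q : Subgroup (MulAut K)} (hQX : Q ≤ Inn K ⊔ E) (hQ : IsPGroup p Q) (hEQ : E ≤ Q)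
    {y : MulAut K} (hy : y ∈ Q) (hyp : y ^ p = 1) : y ∈ E := by
  have h1p := hp.out.one_lt
  have hEX : (Inn K).relIndex (Inn K ⊔ E) = p := by
    rw [relIndex_sup_left, hi]
  have hdv : (Inn K).relIndex Q ∣ (Inn K).relIndex (Inn K ⊔ E) := by
    have h2 : ((Inn K).subgroupOf (Inn K ⊔ E)).relIndex (Q.subgroupOf (Inn K ⊔ E)) ∣
      ((Inn K).subgroupOf (Inn K ⊔ E)).index := relIndex_dvd_index_of_normal _ _
    rw [relIndex_subgroupOf hQX] at h2
    exact h2
  rw [hEX] at hdv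
  have hne : (Inn K).relIndex Q ≠ 1 := by
    intro h
    have h2 := hEQ.trans (relIndex_eq_one.1 h)
    have h3 := relIndex_eq_one.2 h2
    rw [hi] at h3
    omega
  have hQi : (Inn K).relIndex Q = p := ((Nat.dvd_prime hp.out).1 hdv).resolve_left hne
  set! C : Subgroup Q := (Inn K).subgroupOf Q with hC
  have hCi : C.index = p := hQi
  have hCc : IsCyclic C := by
    have h2 : IsCyclic ↥(Inn K ⊓ Q) := cyclic_inn hz hcyc (hQ.to_le inf_le_right) inf_le_left
    have h3 : C = (Inn K ⊓ Q).subgroupOf Q := (inf_subgroupOf_right _ _).symm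
    rw [h3]
    exact (subgroupOfEquivOfLe (inf_le_right : Inn K ⊓ Q ≤ Q)).isCyclic.2 h2
  have hQn : ¬ IsCyclic Q := by
    intro h
    apply not_cyclic_of_sq hE (le_of_eq hc.symm)
    exact isCyclic_of_injective (Subgroup.inclusion hEQ) (Subgroup.inclusion_injective hEQ)
  obtain ⟨-, h3⟩ := Cfsg.Agent.S0127.result hp2 hQ hQn C hCc hCi
  have h4 : E.subgroupOf Q ≤ _root_.Subgroup.closure {x : Q | x ^ p = 1} := by
    intro e he
    exact _root_.Subgroup.subset_closure (Subtype.ext (hE.2 _ (mem_subgroupOf.1 he)))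
  have h5 : E.subgroupOf Q = _root_.Subgroup.closure {x : Q | x ^ p = 1} := by
    refine Subgroup.eq_of_le_of_card_ge h4 ?_
    rw [h3, Nat.card_congr (subgroupOfEquivOfLe hEQ).toEquiv, hc]
  have h6 : (⟨y, hy⟩ : Q) ∈ closure {x : Q | x ^ p = 1} := _root_.Subgroup.subset_closure (Subtype.ext hyp)
  rw [← h5] at h6
  exact mem_subgroupOf.1 h6

end

/-- **simple groups of Lie type with cyclic Sylow `p`-subgroups: a single `E` with `E / (E ∩ Inn K)` of order `≤ p`** -/
theorem Gam_of_cyclic (hF : FieldRow.{u}) {r p : ℕ} (hcd : Cond r p) {K : Type u} [Group K] [Finite K] [hs : IsSimpleGroup K]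
    (hna : ¬ IsMulCommutative K) (hK : IsLieTypeChar r K) (hcyc : ∀ P : Sylow p K, IsCyclic ↥(P : Subgroup K))
    (h3 : ¬ (p = 3 ∧ IsL28 K)) (h5 : ¬ (p = 5 ∧ IsSz32 K)) {E : Subgroup (MulAut K)} (hE : IsElementaryAbelian p E)
    (hc : p ^ 2 ≤ Nat.card E) (hQ : (Inn K).relIndex E ≤ p) : Gam p E = ⊤ := by
  have hp : Fact p.Prime := ⟨hcd.p_prime⟩
  have hr : Fact r.Prime := ⟨hcd.r_prime⟩
  have h1p := hp.out.one_lt
  have hz := center_bot (K := K) hna
  have hinj := conj_injective hz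
  by_cases hd : p ∣ Nat.card K
  swap
  · rw [eq_top_iff]
    refine le_Gam_of_coprime hE hc (X := ⊤) ?_ fun _ _ _ _ => mem_top _
    rwa [card_top]
  obtain ⟨hc2, hi⟩ := card_eq_sq' hz hcyc hQ hE hc
  obtain ⟨x, hx1, hx⟩ : ∃ x : K, x ≠ 1 ∧ MulAut.conj x ∈ E := by
    by_contra hcon
    push Not at hcon
    have h1 : (Inn K).subgroupOf E = ⊥ := by
      rw [eq_bot_iff]
      intro a ha
      obtain ⟨y, hy⟩ := mem_subgroupOf.1 ha
      rw [mem_bot]
      have h2 : y = 1 := by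
        by_contra h2
        exact hcon y h2 (by rw [hy]; exact a.2)
      exact Subtype.ext (by rw [← hy, h2, map_one]; rfl)
    rw [relIndex, h1, index_bot, hc2, pow_two] at hi
    nlinarith only [h1p, hi]
  obtain ⟨e, he, hei⟩ := exists_outer_mem hz hcyc hE hc
  refine Gam_eq_top_of_noSP hna hE hc2 hx1 hx ?_ ?_
  · intro Q hQX hQp hEQ y hy hyp
    exact omega_le hcd.p_ne_two hz hcyc hE hc2 hi hQX hQp hEQ hy hyp
  · set X : Subgroup (MulAut K) := Inn K ⊔ E with hX
    set! I : Subgroup X := (Inn K).subgroupOf X with hI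
    have hIn : I.Normal := inferInstance
    have e1 : K ≃* Inn K := MonoidHom.ofInjective hinj
    have e2 : K ≃* I := e1.trans (subgroupOfEquivOfLe (le_sup_left : Inn K ≤ X)).symm
    have hIs : IsSimpleGroup I := (MulEquiv.isSimpleGroup_congr e2).1 hs
    have hIna : ¬ IsMulCommutative I := by
      intro h
      apply hna
      refine isMulCommutative_iff.2 fun a b => e2.injective ?_
      rw [map_mul, map_mul]
      exact h.1.1 _ _
    have hCI : centralizer (I : Set X) = ⊥ := by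
      rw [eq_bot_iff]
      intro f hf
      rw [mem_bot]
      apply Subtype.ext
      ext k
      have h1 : (⟨MulAut.conj k, (le_sup_left : Inn K ≤ X) ⟨k, rfl⟩⟩ : X) ∈ (I : Set X) := by
        show _ ∈ I
        exact mem_subgroupOf.2 ⟨k, rfl⟩
      have h2 := congrArg (fun z : X => (z : MulAut K)) ((mem_centralizer_iff.1 hf) _ h1)
      have h4 : (f : MulAut K) * MulAut.conj k * (f : MulAut K)⁻¹ = MulAut.conj k := by
        rw [mul_inv_eq_iff_eq_mul]
        exact h2.symm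
      rw [conj_conj] at h4
      exact hinj h4
    have hIK : IsLieTypeChar r I := OddHalf.Known.isLieTypeChar_congr e2 hK
    have hdI : p ∣ Nat.card I := by rwa [← Nat.card_congr e2.toEquiv]
    have hIc : ∀ P : Sylow p I, (IsCyclic ↥(P : Subgroup I) :) := by
      intro P
      have h1 : ((P : Subgroup I).map I.subtype).map X.subtype ≤ Inn K := by
        rintro _ ⟨_, ⟨a, -, rfl⟩, rfl⟩
        exact mem_subgroupOf.1 a.2
      have h2 : IsCyclic ↥(((P : Subgroup I).map I.subtype).map X.subtype) :=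
        cyclic_inn hz hcyc ((P.2.map _).map _) h1
      have h3 : (IsCyclic ↥((P : Subgroup I).map I.subtype) :) :=
        ((((P : Subgroup I).map I.subtype).equivMapOfInjective X.subtype X.subtype_injective)).isCyclic.2 h2
      exact ((((P : Subgroup I).equivMapOfInjective I.subtype I.subtype_injective)).isCyclic.2 h3 :)
    have hfo : orderOf (⟨e, (le_sup_right : E ≤ X) he⟩ : X) = p := by
      rw [Subgroup.orderOf_mk]
      refine orderOf_eq_prime (hE.2 e he) ?_
      rintro rfl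
      exact hei (one_mem _)
    rcases hF r p hcd.p_ne_two hcd.p_ne_r X I hIn hIs hIna hCI hIK hdI hIc ⟨e, (le_sup_right : E ≤ X) he⟩
      (fun h => hei (mem_subgroupOf.1 h)) hfo with h | ⟨h, h'⟩ | ⟨h, h'⟩
    · exact h
    · exfalso
      obtain ⟨F, i1, i2, h8, ⟨f⟩⟩ := h'
      exact h3 ⟨h, F, i1, i2, h8, ⟨e2.trans f⟩⟩
    · exfalso
      obtain ⟨F, i1, i2, h8, ⟨f⟩⟩ := h'
      exact h5 ⟨h, F, i1, i2, h8, ⟨e2.trans f⟩⟩

/-- **simple groups of Lie type with cyclic Sylow `p`-subgroups and cyclic outer automorphism group** -/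
theorem gen_of_cyclic (hF : FieldRow.{u}) {r p : ℕ} (hcd : Cond r p) {K : Type u} [Group K] [Finite K] [hs : IsSimpleGroup K]
    (hna : ¬ IsMulCommutative K) (hK : IsLieTypeChar r K) (hcyc : ∀ P : Sylow p K, IsCyclic ↥(P : Subgroup K))
    (hQ : IsCyclic (MulAut K ⧸ Inn K)) (h3 : ¬ (p = 3 ∧ IsL28 K)) (h5 : ¬ (p = 5 ∧ IsSz32 K)) : Gen p K := by
  have hp : Fact p.Prime := ⟨hcd.p_prime⟩
  intro E hE hc
  exact Gam_of_cyclic hF hcd hna hK hcyc h3 h5 hE hc (relIndex_le hQ hE)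

end Cfsg.Agent.H240.GenTwF
end

-- part: H240/GenTwF/Pair
section
/-!
# S2187, row `²F₄`: two commuting subgroups containing a Sylow `p`-subgroup; the case `E ≤ Inn K` (helper240)

* `PairD p L M` : `L`, `M` commute, `L ∩ M = 1`, `|L| = |M|`, `|G|_p ≤ |L|_p ^ 2`;
* `PairD.exists_conj` : `p`-subgroups are conjugate into `L M`;
* `PairD.rank` : rank at most two, if the `p`-subgroups of `L` and `M` are cyclic;
* `Gam_inner` : **`Gam p E = ⊤` for `E ≤ Inn K`**, if the `p`-subgroups are abelian of rank at most two and there are no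
  strongly `p`-embedded subgroups.
-/

set_option autoImplicit false
set_option linter.unusedSectionVars false

namespace Cfsg.Agent.H240.GenTwF

open Cfsg Subgroup Cfsg.Agent.H818.StrP Cfsg.Agent.H818.Gen

section

variable {G : Type*} [Group G] {p : ℕ}

/-- two commuting subgroups whose product contains a Sylow `p`-subgroup -/
structure PairD (p : ℕ) (L M : Subgroup G) : Prop where
  comm : ∀ l ∈ L, ∀ m ∈ M, l * m = m * l
  inf : ∀ x ∈ L, x ∈ M → x = 1
  card : Nat.card M = Nat.card L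
  fact : (Nat.card G).factorization p ≤ 2 * (Nat.card L).factorization p

variable {L M : Subgroup G}

theorem PairD.uniq (h : PairD p L M) {x y x' y' : G} (hx : x ∈ L) (hy : y ∈ M) (hx' : x' ∈ L) (hy' : y' ∈ M)
    (h1 : x * y = x' * y') : x = x' ∧ y = y' := by
  have h2 : x'⁻¹ * x = y' * y⁻¹ := by
    rw [eq_mul_inv_iff_mul_eq, mul_assoc, h1, inv_mul_cancel_left]
  have h3 : x'⁻¹ * x = 1 := h.inf _ (mul_mem (inv_mem hx') hx) (by
    rw [h2]; exact mul_mem hy' (inv_mem hy))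
  have h4 : x = x' := (inv_mul_eq_one.1 h3).symm
  subst h4
  exact ⟨rfl, mul_left_cancel h1⟩

/-- the product -/
def PairD.prod (h : PairD p L M) : Subgroup G where
  carrier := {g | ∃ x ∈ L, ∃ y ∈ M, g = x * y}
  one_mem' := ⟨1, one_mem _, 1, one_mem _, by simp⟩
  mul_mem' := by
    rintro _ _ ⟨x, hx, y, hy, rfl⟩ ⟨x', hx', y', hy', rfl⟩
    refine ⟨x * x', mul_mem hx hx', y * y', mul_mem hy hy', ?_⟩
    calc x * y * (x' * y') = x * (y * x') * y' := by group
      _ = x * (x' * y) * y' := by rw [h.comm x' hx' y hy]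
      _ = x * x' * (y * y') := by group
  inv_mem' := by
    rintro _ ⟨x, hx, y, hy, rfl⟩
    refine ⟨x⁻¹, inv_mem hx, y⁻¹, inv_mem hy, ?_⟩
    rw [mul_inv_rev, h.comm x⁻¹ (inv_mem hx) y⁻¹ (inv_mem hy)]

variable [Finite G] [hp : Fact p.Prime]

theorem PairD.card_prod (h : PairD p L M) : Nat.card h.prod = Nat.card L * Nat.card M := by
  rw [← Nat.card_prod]
  symm
  refine Nat.card_eq_of_bijective (fun x : L × M => (⟨x.1 * x.2, x.1, x.1.2, x.2, x.2.2, rfl⟩ : h.prod)) ⟨?_, ?_⟩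
  · rintro ⟨⟨x, hx⟩, ⟨y, hy⟩⟩ ⟨⟨x', hx'⟩, ⟨y', hy'⟩⟩ h0
    obtain ⟨h1, h2⟩ := h.uniq hx hy hx' hy' (congrArg Subtype.val h0)
    subst h1; subst h2; rfl
  · rintro ⟨g, x, hx, y, hy, rfl⟩
    exact ⟨(⟨x, hx⟩, ⟨y, hy⟩), rfl⟩

theorem PairD.index (h : PairD p L M) : ¬ p ∣ h.prod.index := by
  intro hd
  have h1 := h.prod.card_mul_index
  have hL : Nat.card L ≠ 0 := Nat.card_pos.ne'
  have hi : h.prod.index ≠ 0 := FiniteIndex.index_ne_zero
  have h2 : (Nat.card G).factorization p = 2 * (Nat.card L).factorization p + h.prod.index.factorization p := by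
    rw [← h1, h.card_prod, h.card, Nat.factorization_mul (mul_ne_zero hL hL) hi, Nat.factorization_mul hL hL,
      Finsupp.add_apply, Finsupp.add_apply]
    ring
  have h3 : 0 < h.prod.index.factorization p := hp.out.factorization_pos_of_dvd hi hd
  have := h.fact
  omega

/-- **`p`-subgroups are conjugate into `L M`** -/
theorem PairD.exists_conj (h : PairD p L M) {A : Subgroup G} (hA : IsPGroup p A) :
    ∃ g : G, ∀ a ∈ A, ∃ l ∈ L, ∃ m ∈ M, g * a * g⁻¹ = l * m :=
  H240.BalTwF.exists_conj_le hp.out h.index hA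

/-- **rank at most two** -/
theorem PairD.rank (h : PairD p L M) (hcL : ∀ P : Subgroup G, P ≤ L → IsPGroup p P → IsCyclic P)
    (hcM : ∀ P : Subgroup G, P ≤ M → IsPGroup p P → IsCyclic P) {A : Subgroup G} (hA : IsElementaryAbelian p A) :
    Nat.card A ≤ p ^ 2 := by
  classical
  obtain ⟨g, hg⟩ := h.exists_conj (elab_isPGroup hA)
  choose! fx hfx fy hfy hfxy using hg
  have hmul : ∀ a b : A, fx (a * b) = fx a * fx b ∧ fy (a * b) = fy a * fy b := by
    intro a b
    refine h.uniq (hfx _ (mul_mem a.2 b.2)) (hfy _ (mul_mem a.2 b.2)) (mul_mem (hfx _ a.2) (hfx _ b.2))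
      (mul_mem (hfy _ a.2) (hfy _ b.2)) ?_
    rw [← hfxy _ (mul_mem a.2 b.2)]
    calc g * ((a : G) * b) * g⁻¹ = (g * a * g⁻¹) * (g * b * g⁻¹) := by group
      _ = fx a * (fy a * fx b) * fy b := by rw [hfxy a a.2, hfxy b b.2]; group
      _ = fx a * (fx b * fy a) * fy b := by rw [h.comm _ (hfx _ b.2) _ (hfy _ a.2)]
      _ = _ := by group
  let πx : A →* G := MonoidHom.mk' (fun a => fx a) fun a b => (hmul a b).1
  let πy : A →* G := MonoidHom.mk' (fun a => fy a) fun a b => (hmul a b).2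
  have hle : ∀ (π : A →* G), IsCyclic π.range → Nat.card π.range ≤ p := by
    intro π hπ
    refine card_le_of_cyclic fun x => ?_
    obtain ⟨_, a, rfl⟩ := x
    refine Subtype.ext ?_
    show π a ^ p = 1
    rw [← map_pow, show a ^ p = 1 from Subtype.ext (hA.2 a a.2), map_one]
  have hpg : ∀ (π : A →* G), IsPGroup p π.range := fun π => by
    rintro ⟨_, a, rfl⟩
    refine ⟨1, Subtype.ext ?_⟩
    show π a ^ p ^ 1 = 1
    rw [pow_one, ← map_pow, show a ^ p = 1 from Subtype.ext (hA.2 a a.2), map_one]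
  have h1 : Nat.card πx.range ≤ p := hle _ (hcL _ (by rintro _ ⟨a, rfl⟩; exact hfx _ a.2) (hpg _))
  have h2 : Nat.card πy.range ≤ p := hle _ (hcM _ (by rintro _ ⟨a, rfl⟩; exact hfy _ a.2) (hpg _))
  have h3 : Nat.card A ≤ Nat.card (πx.range × πy.range) := by
    refine Nat.card_le_card_of_injective (fun a : A => ((⟨πx a, a, rfl⟩ : πx.range), (⟨πy a, a, rfl⟩ : πy.range))) ?_
    intro a b hab
    have e1 : fx a = fx b := congrArg (fun w => ((w.1 : πx.range) : G)) hab
    have e2 : fy a = fy b := congrArg (fun w => ((w.2 : πy.range) : G)) hab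
    have e3 := hfxy a a.2
    rw [e1, e2, ← hfxy b b.2] at e3
    exact Subtype.ext (mul_left_cancel (mul_right_cancel e3))
  rw [Nat.card_prod] at h3
  calc Nat.card A ≤ _ := h3
    _ ≤ p * p := Nat.mul_le_mul h1 h2
    _ = p ^ 2 := (pow_two p).symm

end

section

variable {K : Type*} [Group K] [Finite K] {p : ℕ} [hp : Fact p.Prime]

/-- **inner automorphisms** -/
theorem Gam_inner [IsSimpleGroup K] (hna : ¬ IsMulCommutative K)
    (hab : ∀ P : Subgroup K, IsPGroup p P → ∀ a ∈ P, ∀ b ∈ P, a * b = b * a)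
    (hrk : ∀ A : Subgroup K, IsElementaryAbelian p A → Nat.card A ≤ p ^ 2) (hno : NoSP p K)
    {E : Subgroup (MulAut K)} (hE : IsElementaryAbelian p E) (hc : p ^ 2 ≤ Nat.card E) (hI : E ≤ Inn K) :
    Gam p E = ⊤ := by
  have h1p := hp.out.one_lt
  have hz := center_bot (K := K) hna
  have hinj := conj_injective hz
  -- the pull back of subgroups of `Inn K`
  have hmap : ∀ Q : Subgroup (MulAut K), Q ≤ Inn K →
      (Q.comap (MulAut.conj : K →* MulAut K)).map (MulAut.conj : K →* MulAut K) = Q := fun Q hQ => map_comap_eq_self hQ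
  have hcard : ∀ Q : Subgroup (MulAut K), Q ≤ Inn K → Nat.card ↥(Q.comap (MulAut.conj : K →* MulAut K)) = Nat.card Q := by
    intro Q hQ
    have h1 := Nat.card_congr ((Q.comap (MulAut.conj : K →* MulAut K)).equivMapOfInjective _ hinj).toEquiv
    rw [hmap Q hQ] at h1
    exact h1
  have hel : ∀ Q : Subgroup (MulAut K), IsElementaryAbelian p Q →
      IsElementaryAbelian p (Q.comap (MulAut.conj : K →* MulAut K)) := by
    intro Q hQ
    refine ⟨⟨⟨fun a b => ?_⟩⟩, fun a ha => hinj (by rw [map_pow, hQ.2 _ ha, map_one])⟩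
    refine Subtype.ext (hinj ?_)
    show MulAut.conj ((a : K) * b) = MulAut.conj ((b : K) * a)
    rw [map_mul, map_mul]
    exact congrArg Subtype.val (hQ.1.1.1 ⟨_, a.2⟩ ⟨_, b.2⟩)
  have hrk' : ∀ Q : Subgroup (MulAut K), Q ≤ Inn K → IsElementaryAbelian p Q → Nat.card Q ≤ p ^ 2 := by
    intro Q hQ hQ'
    rw [← hcard Q hQ]
    exact hrk _ (hel Q hQ')
  have hc2 : Nat.card E = p ^ 2 := le_antisymm (hrk' E hI hE) hc
  obtain ⟨x, hx1, hx⟩ : ∃ x : K, x ≠ 1 ∧ MulAut.conj x ∈ E := by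
    have h1 : Nontrivial E := Finite.one_lt_card_iff_nontrivial.1 (by rw [hc2]; exact Nat.one_lt_pow two_ne_zero h1p)
    obtain ⟨⟨e, he⟩, hne⟩ := exists_ne (1 : E)
    obtain ⟨x, rfl⟩ := hI he
    refine ⟨x, ?_, he⟩
    rintro rfl
    exact hne (Subtype.ext (map_one _))
  have hsup : Inn K ⊔ E = Inn K := sup_eq_left.2 hI
  refine Gam_eq_top_of_noSP hna hE hc2 hx1 hx ?_ ?_
  · intro Q hQX hQp hEQ y hy hyp
    rw [hsup] at hQX
    have hQab : ∀ a ∈ Q, ∀ b ∈ Q, a * b = b * a := by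
      intro a ha b hb
      obtain ⟨a, rfl⟩ := hQX ha
      obtain ⟨b, rfl⟩ := hQX hb
      rw [← map_mul, ← map_mul, hab _ (hQp.comap_of_injective _ hinj) a ha b hb]
    -- the group generated by `E` and `y`
    have hD : IsElementaryAbelian p (E ⊔ zpowers y) := by
      have hle : E ⊔ zpowers y ≤ Q := sup_le hEQ (zpowers_le.2 hy)
      refine ⟨⟨⟨fun a b => Subtype.ext (hQab _ (hle a.2) _ (hle b.2))⟩⟩, ?_⟩
      have h1 : E ⊔ zpowers y ≤ Subgroup.closure {a : MulAut K | a ∈ Q ∧ a ^ p = 1} :=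
        sup_le (fun e he => subset_closure ⟨hEQ he, hE.2 e he⟩) (zpowers_le.2 (subset_closure ⟨hy, hyp⟩))
      have h2 : ∀ a ∈ Subgroup.closure {a : MulAut K | a ∈ Q ∧ a ^ p = 1}, a ∈ Q ∧ a ^ p = 1 := by
        intro a ha
        induction ha using Subgroup.closure_induction with
        | mem a ha => exact ha
        | one => exact ⟨one_mem _, one_pow _⟩
        | mul a b _ _ ha hb =>
          refine ⟨mul_mem ha.1 hb.1, ?_⟩
          rw [(show Commute a b from hQab a ha.1 b hb.1).mul_pow, ha.2, hb.2, mul_one]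
        | inv a _ ha => exact ⟨inv_mem ha.1, by rw [inv_pow, ha.2, inv_one]⟩
      exact fun a ha => (h2 a (h1 ha)).2
    have h3 := hrk' _ (sup_le hI ((zpowers_le.2 hy).trans hQX)) hD
    have h4 : E = E ⊔ zpowers y := eq_of_le_of_card_ge le_sup_left (by rw [hc2]; exact h3)
    rw [h4]
    exact mem_sup_right (mem_zpowers y)
  · have e1 : K ≃* ↥(Inn K ⊔ E) := (MonoidHom.ofInjective hinj).trans (MulEquiv.subgroupCongr hsup.symm)
    exact noSP_congr e1 hno

end

end Cfsg.Agent.H240.GenTwF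
end

-- part: H240/GenTwF/TwFInner
section
/-!
# S2187, row `²F₄`: the pairs `L₄ × M₄`, `LO × M₅`; inner automorphisms (helper240)

* `pair_sz`, `pair_plus` : the pairs `L₄ × M₄` for `p ∣ q - 1` or `p ∣ q² + 1`, `LO × M₅` for `p ∣ q + 1`;
* `inner_twF4` : **`Gam p E = ⊤` for `E ≤ Inn ²F₄(q)`**, `p ≥ 5`.
-/

set_option autoImplicit false
set_option linter.unusedSectionVars false
set_option linter.unusedVariables false

namespace Cfsg.Agent.H240.GenTwF

open Cfsg Subgroup Cfsg.Agent.H818.StrP Cfsg.Agent.H818.Gen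
open Cfsg.Agent.SplitTwo Cfsg.Agent.SplitTwo.ZS Cfsg.Agent.TitsThree.RankTwoZ Cfsg.Agent.SplitTwo.RootSysZ
open Cfsg.Agent.KFacts.TwF4 Cfsg.Agent.KFacts.TwF4.Arc Cfsg.Agent.KFacts.TwF4.Irr Cfsg.Agent.KFacts.TwF4.Perf
open Cfsg.Agent.KFacts.TwF4.Inv
open Cfsg.Agent.CpAutTwF.Pair Cfsg.Agent.CpAutTwF.Cent
open Cfsg.Agent.H496.TwFRad.Levi Cfsg.Agent.H496.SpTwF.Sq
open Cfsg.Agent.H772.TF Cfsg.Agent.H496.TwEight.HOFacts
open Cfsg.Agent.H240.BalTwF (fact_L4 card_M4 card_M5 LO_inf_M5 unit_of_card)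

universe u

section sys

variable {F : Type*} [Field F] {σ : F →+* F} {G : Type u} [Group G] (S : Full σ G)
variable [Finite F] [Finite G] {m : ℕ} (hm : 1 ≤ m) (hFc : Nat.card F = 2 ^ (2 * m + 1))
variable (hG : Nat.card G = H42.Tw.ord (Nat.card F)) {p : ℕ} [hp : Fact p.Prime]

include hm hFc hG

theorem pair_sz (hp2 : p ≠ 2) (hpq : p ∣ Nat.card F - 1 ∨ p ∣ Nat.card F ^ 2 + 1) : PairD p (L4 S) (M4 S) where
  comm := fun l hl m hm => L4_comm_M4 S hl hm
  inf := fun x h1 h2 => inf_one S (unit_of_card hm hFc) h1 h2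
  card := card_M4 S
  fact := (fact_L4 S hm hFc hG hp2 hpq).le

theorem four_le : 4 ≤ Nat.card F := by
  rw [hFc]
  calc 4 = 2 ^ 2 := rfl
    _ ≤ 2 ^ (2 * m + 1) := Nat.pow_le_pow_right (by norm_num) (by omega)

theorem pair_plus (hp5 : 5 ≤ p) (hpq : p ∣ Nat.card F + 1) : PairD p S.LO (M5 S) where
  comm := fun l hl m hm => comm_M5 S hl hm
  inf := fun x h1 h2 => LO_inf_M5 S (four_le hm hFc hG) h1 h2
  card := card_M5 S
  fact := by
    have h4 := four_le hm hFc hG
    rw [hG, H42.Tw.fact_plus hp5 (by omega) hpq]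
    refine Nat.mul_le_mul_left 2 ?_
    have hd : Nat.card F + 1 ∣ Nat.card S.LO := by
      rw [Cfsg.Agent.H42.Deg.F4.card_LO]
      exact dvd_mul_left _ _
    exact (Nat.factorization_le_iff_dvd (by omega) Nat.card_pos.ne').2 hd p

/-- **rank at most two**, `p` divides `q² - 1` or `q² + 1` -/
theorem rank_sys (hR : S.R.p = 2) (hp5 : 5 ≤ p)
    (hpq : p ∣ Nat.card F - 1 ∨ p ∣ Nat.card F + 1 ∨ p ∣ Nat.card F ^ 2 + 1) {A : Subgroup G}
    (hA : IsElementaryAbelian p A) : Nat.card A ≤ p ^ 2 := by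
  have h4 := four_le hm hFc hG
  have hF := unit_of_card (F := F) hm hFc
  rcases hpq with h | h | h
  · exact PreUniq.LowExc.TwF4.rank_of_dvd S hp.out (by omega) rfl (by omega) hG h A hA.1 hA.2
  · have hnq := H42.Tw.not_dvd_sub_one_of_plus hp5 (by omega) h
    exact (pair_plus S hm hFc hG hp5 h).rank (fun P hP hPp => H42.Tw.cyc S hF hR (by omega) hnq (j := 1) P hP hPp)
      (fun P hP hPp => H42.Tw.cyc S hF hR (by omega) hnq (j := 5) P hP hPp) hA
  · have hnq := H42.Tw.not_dvd_sub_one_of_sq hp5 (by omega) h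
    exact (pair_sz S hm hFc hG (by omega) (Or.inr h)).rank
      (fun P hP hPp => H42.Tw.cyc S hF hR (by omega) hnq (j := 0) P hP hPp)
      (fun P hP hPp => H42.Tw.cyc S hF hR (by omega) hnq (j := 4) P hP hPp) hA

end sys

section model

variable {K : Type} [Field K] [Fintype K] {m : ℕ} {p : ℕ} [hp : Fact p.Prime]

/-- the cases for a noncyclic `p`-subgroup -/
theorem cases_rank (hm : 1 ≤ m) (hK : Fintype.card K = 2 ^ (2 * m + 1)) (hp5 : 5 ≤ p)
    {A : Subgroup ↥(Lie.twistedF4 K (2 ^ m))} (hA : IsPGroup p A) (hA1 : ¬ IsCyclic A) :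
    p ∣ Nat.card K - 1 ∨ p ∣ Nat.card K + 1 ∨ p ∣ Nat.card K ^ 2 + 1 := by
  have hch := Cfsg.Agent.ChevalleyStructure.TwF4.Twisted.charP_two hK
  have hfin := H42.Tw.finite_tw (K := K) (2 ^ m)
  have hcK : Nat.card K = 2 ^ (2 * m + 1) := by rw [Nat.card_eq_fintype_card, hK]
  have h8 : 8 ≤ 2 ^ (2 * m + 1) := by
    calc 8 = 2 ^ 3 := by norm_num
      _ ≤ 2 ^ (2 * m + 1) := Nat.pow_le_pow_right (by norm_num) (by omega)
  have hcard : Nat.card ↥(Lie.twistedF4 K (2 ^ m)) = H42.Tw.ord (Nat.card K) := by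
    rw [hcK]; exact Cfsg.Agent.S1068.result hK
  have hd : p ∣ H42.Tw.ord (2 ^ (2 * m + 1)) := by
    rw [← hcK, ← hcard]
    have h1 : Nontrivial A := by
      by_contra h
      rw [not_nontrivial_iff_subsingleton] at h
      exact (hA1 inferInstance :)
    obtain ⟨n, hn, hc⟩ := (hA.nontrivial_iff_card).1 h1
    exact ((dvd_pow_self p hn.ne').trans (by rw [← hc])).trans (card_subgroup_dvd_card A)
  have hpq : ¬ p ∣ 2 ^ (2 * m + 1) := by
    intro h
    have := (Nat.prime_dvd_prime_iff_eq hp.out Nat.prime_two).1 (hp.out.dvd_of_dvd_pow h)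
    omega
  rw [hcK]
  rcases H42.Tw.cases_ord (by omega) hpq hd with h | h | h | h | h
  · exact Or.inl h
  · exact Or.inr (Or.inl h)
  · exact Or.inr (Or.inr h)
  · exact (hA1 (H42.Tw.cyclic_twF4' hK hp5 (Or.inl h) hA)).elim
  · exact (hA1 (H42.Tw.cyclic_twF4' hK hp5 (Or.inr h) hA)).elim

theorem rank_twF4 (hm : 1 ≤ m) (hK : Fintype.card K = 2 ^ (2 * m + 1)) (hp5 : 5 ≤ p)
    {A : Subgroup ↥(Lie.twistedF4 K (2 ^ m))} (hA : IsElementaryAbelian p A) : Nat.card A ≤ p ^ 2 := by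
  have hch := Cfsg.Agent.ChevalleyStructure.TwF4.Twisted.charP_two hK
  have hfin := H42.Tw.finite_tw (K := K) (2 ^ m)
  have hcK : Nat.card K = 2 ^ (2 * m + 1) := by rw [Nat.card_eq_fintype_card, hK]
  have hcard : Nat.card ↥(Lie.twistedF4 K (2 ^ m)) = H42.Tw.ord (Nat.card K) := by
    rw [hcK]; exact Cfsg.Agent.S1068.result hK
  by_cases hc : IsCyclic A
  · have h1 := card_le_of_cyclic (p := p) (P := A) fun x => Subtype.ext (hA.2 x x.2)
    have := hp.out.one_lt
    nlinarith only [h1]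
  obtain ⟨φ, hφ⟩ := Cfsg.Agent.ChevalleyStructure.TwF4.TwistedFix.exists_rln hK
  exact rank_sys (Cfsg.Agent.KFacts.TwF4.Inst.full hK hφ) hm hcK hcard rfl hp5 (cases_rank hm hK hp5 (elab_isPGroup hA) hc) hA

/-- **inner automorphisms of `²F₄(q)`, `q ≥ 8`** -/
theorem inner_twF4 (hm : 1 ≤ m) (hK : Fintype.card K = 2 ^ (2 * m + 1)) (hp5 : 5 ≤ p)
    {E : Subgroup (MulAut ↥(Lie.twistedF4 K (2 ^ m)))} (hE : IsElementaryAbelian p E) (hc : p ^ 2 ≤ Nat.card E)
    (hI : E ≤ Inn _) : Gam p E = ⊤ := by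
  have hch := Cfsg.Agent.ChevalleyStructure.TwF4.Twisted.charP_two hK
  have hfin := H42.Tw.finite_tw (K := K) (2 ^ m)
  obtain ⟨hs, hna⟩ := Cfsg.Agent.S1072.result hm hK
  have hna' : ¬ IsMulCommutative ↥(Lie.twistedF4 K (2 ^ m)) := hna
  have hX : Lie.Iso2F4 ↥(Lie.twistedF4 K (2 ^ m)) := ⟨K, inferInstance, inferInstance, m, hm, hK, ⟨MulEquiv.refl _⟩⟩
  rcases H496.SpTwF.RowFin.row_2F4 hX (p := p) (by omega) with h | h
  · exact (not_cyclic_of_sq hE hc (cyclic_inn (center_bot hna') h (elab_isPGroup hE) hI)).elim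
  · refine Gam_inner hna' ?_ (fun A hA => rank_twF4 hm hK hp5 hA) h hE hc hI
    intro P hP a ha b hb
    exact congrArg Subtype.val ((H42.Tw.abelian_twF4 hp5 hP).1.1 (⟨a, ha⟩ : P) ⟨b, hb⟩)

end model

end Cfsg.Agent.H240.GenTwF
end
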